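import Groth.Agent.Lib.Fitting26.Sheaf
import Groth.Agent.Lib.Fitting.Local
import Groth.Agent.Lib.Fitting.Projective
import Groth.Agent.Lib.FlatH4.PullChart
import Groth.Agent.Lib.CurveCartier25.Sum
import Groth.Agent.Lib.EffCartier.Comap
import Groth.Agent.Lib.EffCartier.Mul
import Groth.Prelude.Def_Mor2
import Mathlib.Algebra.Category.Ring.Constructions

/-! # Fitting ideals of a finite morphism. -/

set_option autoImplicit false
set_option linter.style.haveILetI false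
set_option backward.isDefEq.respectTransparency.types false
universe u

open CategoryTheory CategoryTheory.Limits AlgebraicGeometry TensorProduct

noncomputable section

namespace Groth.Agent.GrpdFit19

theorem map_ideal_of_isPushout {A B A' B' : CommRingCat.{u}} {a : A ⟶ B} {c : A ⟶ A'} {d : B ⟶ B'} {b : A' ⟶ B'}
    (h : IsPushout a c d b) (ha : a.hom.Finite) (r : ℕ) :
    (letI := a.hom.toAlgebra; Fitt.ideal A B r).map c.hom = (letI := b.hom.toAlgebra; Fitt.ideal A' B' r) := by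
  letI := a.hom.toAlgebra
  letI := b.hom.toAlgebra
  letI := c.hom.toAlgebra
  letI := d.hom.toAlgebra
  letI : Algebra A B' := (b.hom.comp c.hom).toAlgebra
  haveI : IsScalarTower A A' B' := IsScalarTower.of_algebraMap_eq fun _ => rfl
  haveI : IsScalarTower A B B' := IsScalarTower.of_algebraMap_eq' (congrArg CommRingCat.Hom.hom h.w).symm
  haveI : Module.Finite A B := ha
  haveI : Algebra.IsPushout A A' B B' := CommRingCat.isPushout_iff_isPushout.1 h.flip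
  rw [← FittingLib.ideal_congr (Algebra.IsPushout.equiv A A' B B').toLinearEquiv r, FittingLib.ideal_baseChange]
  rfl

variable {X Y : Scheme.{u}} (f : X ⟶ Y)

/-- The Fitting ideal of the functions upstairs. -/
def fitId (r : ℕ) (U : Y.Opens) : Ideal Γ(Y, U) :=
  letI := (f.app U).hom.toAlgebra
  Fitt.ideal Γ(Y, U) Γ(X, f ⁻¹ᵁ U) r

theorem map_fitId {X' Y' : Scheme.{u}} {g : Y' ⟶ Y} {g' : X' ⟶ X} {f' : X' ⟶ Y'} [IsFinite f]
    (H : IsPullback g' f' f g) (r : ℕ) {U : Y.Opens} {V : Y'.Opens} (hU : IsAffineOpen U) (hV : IsAffineOpen V)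
    (e : V ≤ g ⁻¹ᵁ U) : (fitId f r U).map (g.appLE U V e).hom = fitId f' r V := by
  have hUY : f' ⁻¹ᵁ V = g' ⁻¹ᵁ (f ⁻¹ᵁ U) ⊓ f' ⁻¹ᵁ V := by
    refine le_antisymm (le_inf ?_ le_rfl) inf_le_right
    intro x hx
    show f (g' x) ∈ U
    rw [← Scheme.Hom.comp_apply, H.w, Scheme.Hom.comp_apply]
    exact e hx
  have h := FlatH4.isPushout_sections H e (le_refl (f ⁻¹ᵁ U)) hUY hU hV (hU.preimage f)
  rw [← Scheme.Hom.app_eq_appLE] at h
  have h' : IsPushout (f.app U) (g.appLE U V e) (g'.appLE (f ⁻¹ᵁ U) (f' ⁻¹ᵁ V) (hUY.le.trans inf_le_left))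
      (f'.app V) := by
    rw [Scheme.Hom.app_eq_appLE f']; exact h
  exact map_ideal_of_isPushout h' (f.finite_app U hU) r

variable [IsFinite f]

/-- The Fitting ideal sheaf of a finite morphism. -/
def fit (r : ℕ) : Y.IdealSheafData :=
  { ideal := fun U => fitId f r U.1
    map_ideal_basicOpen := fun U a => by
      have e : Y.basicOpen a ≤ (𝟙 Y : Y ⟶ Y) ⁻¹ᵁ U.1 := Y.basicOpen_le a
      have h := map_fitId f (g := 𝟙 Y) (g' := 𝟙 X) (f' := f) (IsPullback.of_horiz_isIso ⟨by simp⟩) r U.2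
        (U.2.basicOpen a) e
      rwa [show (𝟙 Y : Y ⟶ Y).appLE U.1 (Y.basicOpen a) e = Y.presheaf.map (homOfLE (Y.basicOpen_le a)).op by
        simp [Scheme.Hom.appLE]; exact Category.id_comp _] at h }

theorem fit_ideal (r : ℕ) (U : Y.affineOpens) : (fit f r).ideal U = fitId f r U.1 := rfl

theorem fit_mono : Monotone (fit f) := fun k l h U => by
  letI := (f.app U.1).hom.toAlgebra
  haveI : Module.Finite Γ(Y, U.1) Γ(X, f ⁻¹ᵁ U.1) := f.finite_app U.1 U.2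
  exact FittingLib.ideal_mono h

theorem comap_fit {X' Y' : Scheme.{u}} {g : Y' ⟶ Y} {g' : X' ⟶ X} {f' : X' ⟶ Y'} [IsFinite f']
    (H : IsPullback g' f' f g) (r : ℕ) : (fit f r).comap g = fit f' r := by
  refine EffCartier.eq_of_forall_exists fun t => ?_
  obtain ⟨U, hU, htU, -⟩ := exists_isAffineOpen_mem_and_subset (x := g t) (U := ⊤) trivial
  obtain ⟨V, hV, htV, hle⟩ := exists_isAffineOpen_mem_and_subset (x := t) (U := g ⁻¹ᵁ U) htU
  refine ⟨⟨V, hV⟩, htV, ?_⟩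
  rw [EffCartier.comap_ideal _ g ⟨U, hU⟩ ⟨V, hV⟩ hle]
  exact map_fitId f H r hU hV hle

/-- A section kills the zeroth Fitting ideal. -/
theorem fit_zero_of_section (e : Y ⟶ X) (he : e ≫ f = 𝟙 Y) : fit f 0 = ⊥ := by
  refine le_antisymm (fun U => ?_) bot_le
  letI := (f.app U.1).hom.toAlgebra
  haveI : Module.Finite Γ(Y, U.1) Γ(X, f ⁻¹ᵁ U.1) := f.finite_app U.1 U.2
  intro a ha
  have h1 := Module.mem_annihilator.1 (FittingLib.ideal_zero_le_annihilator ha) 1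
  have h2 : f.app U.1 a = 0 := by
    rw [Algebra.smul_def, mul_one] at h1
    exact h1
  have key : ∀ (p : Y ⟶ Y), p = 𝟙 Y → ∀ h : U.1 ≤ p ⁻¹ᵁ U.1, p.appLE U.1 U.1 h a = a := by
    rintro p rfl h
    show Y.presheaf.map (homOfLE (le_refl U.1)).op a = a
    exact congrArg (fun q => (q : Γ(Y, U.1) ⟶ Γ(Y, U.1)) a) (Y.presheaf.map_id (Opposite.op U.1))
  have hle : U.1 ≤ e ⁻¹ᵁ (f ⁻¹ᵁ U.1) := by
    intro x hx
    show f (e x) ∈ U.1
    rw [← Scheme.Hom.comp_apply, he]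
    exact hx
  have h3 := key (e ≫ f) he (hle.trans (by rfl))
  have h5 : (e ≫ f).appLE U.1 U.1 hle = f.app U.1 ≫ e.appLE (f ⁻¹ᵁ U.1) U.1 hle := by
    rw [Scheme.Hom.app_eq_appLE, Scheme.Hom.appLE_comp_appLE]
  rw [h5, CommRingCat.comp_apply] at h3
  show a = 0
  rw [← h3]
  show e.appLE (f ⁻¹ᵁ U.1) U.1 hle (f.app U.1 a) = 0
  rw [h2, map_zero]

theorem exists_notMem_support (y : Y) : ∃ r, y ∉ (fit f r).support := by
  obtain ⟨U, hU, hyU, -⟩ := exists_isAffineOpen_mem_and_subset (x := y) (U := ⊤) trivial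
  letI := (f.app U).hom.toAlgebra
  haveI : Module.Finite Γ(Y, U) Γ(X, f ⁻¹ᵁ U) := f.finite_app U hU
  obtain ⟨n, g, hg⟩ := FittingLib.exists_generators (R := Γ(Y, U)) (M := Γ(X, f ⁻¹ᵁ U))
  refine ⟨n, fun h => ?_⟩
  rw [Scheme.IdealSheafData.mem_support_iff_of_mem (U := ⟨U, hU⟩) hyU, fit_ideal,
    fitId, FittingLib.ideal_eq_top_of_span g hg le_rfl, Scheme.mem_zeroLocus_iff] at h
  exact h 1 (Submodule.mem_top) (by rw [Y.basicOpen_of_isUnit isUnit_one]; exact hyU)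

/-- A stratum: locally free of the given degree. -/
theorem isFinLocFreeOfDeg {r : ℕ} (h0 : fit f r = ⊥) (h1 : fit f (r + 1) = ⊤) :
    Mor2.IsFinLocFreeOfDeg (r + 1) f := by
  have key : ∀ (U : Y.Opens), IsAffineOpen U → (f.app U).hom.Flat ∧ (f.app U).hom.FinitePresentation ∧
      ∀ p, (f.app U).hom.finrank p = r + 1 := by
    intro U hU
    letI := (f.app U).hom.toAlgebra
    haveI : Module.Finite Γ(Y, U) Γ(X, f ⁻¹ᵁ U) := f.finite_app U hU
    have e0 : Fitt.ideal Γ(Y, U) Γ(X, f ⁻¹ᵁ U) r = ⊥ := by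
      rw [show Fitt.ideal Γ(Y, U) Γ(X, f ⁻¹ᵁ U) r = (fit f r).ideal ⟨U, hU⟩ from rfl, h0]; rfl
    have e1 : Fitt.ideal Γ(Y, U) Γ(X, f ⁻¹ᵁ U) (r + 1) = ⊤ := by
      rw [show Fitt.ideal Γ(Y, U) Γ(X, f ⁻¹ᵁ U) (r + 1) = (fit f (r + 1)).ideal ⟨U, hU⟩ from rfl, h1]; rfl
    obtain ⟨n, x, hx⟩ := FittingLib.exists_generators (R := Γ(Y, U)) (M := Γ(X, f ⁻¹ᵁ U))
    obtain ⟨hproj, hfp⟩ := FittingLib.projective_of_forall_exists (R := Γ(Y, U)) (M := Γ(X, f ⁻¹ᵁ U)) fun m hm => by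
      obtain ⟨u, g, hu, hg⟩ := (FittingLib.not_le_iff_exists_smul_mem_span (R := Γ(Y, U)) (M := Γ(X, f ⁻¹ᵁ U)) (r + 1) m).1
        (by rw [e1]; exact fun hh => hm.ne_top (top_le_iff.1 hh))
      exact ⟨u, r + 1, g, n, hu, hg, fun c hc i => by
        rw [mul_comm]
        exact FittingLib.coeff_mul_pow_eq_zero g hx (by simpa using e0) (fun j => hg (x j)) hc i⟩
    haveI : Algebra.FinitePresentation Γ(Y, U) Γ(X, f ⁻¹ᵁ U) := Algebra.FinitePresentation.of_finitePresentation _ _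
    refine ⟨(inferInstance : Module.Flat Γ(Y, U) Γ(X, f ⁻¹ᵁ U)), ‹Algebra.FinitePresentation Γ(Y, U) Γ(X, f ⁻¹ᵁ U)›, fun p => ?_⟩
    show Module.rankAtStalk (R := Γ(Y, U)) Γ(X, f ⁻¹ᵁ U) p = r + 1
    rw [Module.rankAtStalk_eq]
    have hle : Module.finrank p.asIdeal.ResidueField (p.asIdeal.ResidueField ⊗[Γ(Y, U)] Γ(X, f ⁻¹ᵁ U)) ≤ r + 1 :=
      (FittingLib.not_le_iff_finrank_fiber_le (r + 1) p.asIdeal).1
        (by rw [e1]; exact fun hh => p.isPrime.ne_top (top_le_iff.1 hh))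
    have hgt : ¬ Module.finrank p.asIdeal.ResidueField (p.asIdeal.ResidueField ⊗[Γ(Y, U)] Γ(X, f ⁻¹ᵁ U)) ≤ r := fun hh =>
      (FittingLib.not_le_iff_finrank_fiber_le r p.asIdeal).2 hh (by rw [e0]; exact bot_le)
    show Module.finrank p.asIdeal.ResidueField (p.asIdeal.ResidueField ⊗[Γ(Y, U)] Γ(X, f ⁻¹ᵁ U)) = r + 1
    omega
  have cov : ⨆ U : Y.affineOpens, f ⁻¹ᵁ U.1 = ⊤ := by
    refine top_le_iff.1 fun x _ => ?_
    obtain ⟨U, hU, hxU, -⟩ := exists_isAffineOpen_mem_and_subset (x := f x) (U := ⊤) trivial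
    exact TopologicalSpace.Opens.mem_iSup.2 ⟨⟨U, hU⟩, hxU⟩
  have hcomp : ∀ U : Y.affineOpens, (f ⁻¹ᵁ U.1).ι ≫ f =
      (U.2.preimage f).isoSpec.hom ≫ Spec.map (f.app U.1) ≫ U.2.fromSpec := by
    intro U
    rw [Scheme.Hom.app_eq_appLE, U.2.SpecMap_appLE_fromSpec f (U.2.preimage f) le_rfl,
      IsAffineOpen.isoSpec_hom_fromSpec_assoc]
  haveI hfl : Flat f := IsZariskiLocalAtSource.of_iSup_eq_top (P := @Flat) _ cov fun U => by
    rw [hcomp]
    haveI : Flat (Spec.map (f.app U.1)) := Flat.SpecMap_iff.2 (key _ U.2).1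
    infer_instance
  have hlfp : LocallyOfFinitePresentation f :=
    IsZariskiLocalAtSource.of_iSup_eq_top (P := @LocallyOfFinitePresentation) _ cov fun U => by
      rw [hcomp]
      haveI : LocallyOfFinitePresentation (Spec.map (f.app U.1)) :=
        (HasRingHomProperty.Spec_iff (P := @LocallyOfFinitePresentation)).2 (key _ U.2).2.1
      infer_instance
  refine ⟨⟨inferInstance, hfl, hlfp⟩, fun y => ?_⟩
  obtain ⟨U, hU, hyU, -⟩ := exists_isAffineOpen_mem_and_subset (x := y) (U := ⊤) trivial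
  rw [← CurveCartier25.finrank_eq_app f hU y hyU]
  exact (key U hU).2.2 _

end Groth.Agent.GrpdFit19
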